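import Groth.Agent.ProjCM.Basic
import Groth.Agent.GorLib.RingLevel
import Groth.Agent.GorLib.FieldExt
import Groth.Agent.GorLib.LinkageGorRing

/-!
Graded rings with homogeneous elements of two consecutive degrees: the degree-zero localisation is a
quotient of the localisation by a regular element.
-/

set_option autoImplicit false
set_option linter.style.haveILetI false
set_option linter.unusedVariables false
universe u

open DirectSum

namespace Groth.Agent.ProjCM

variable {A : Type u} [CommRing A] (𝒜 : ℕ → AddSubgroup A) [GradedRing 𝒜]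

/-- Evaluation of the degree at an element. -/
theorem exists_degEval {R : Type u} [CommRing R] (φ : A →+* R) (t : R) :
    ∃ ε : A →+* R, ∀ (i : ℕ) (a : A), a ∈ 𝒜 i → ε a = φ a * t ^ i := by
  classical
  let g : ∀ i, 𝒜 i →+ R := fun i =>
    AddMonoidHom.mk' (fun a => φ a.1 * t ^ i) fun a b => by
      show φ (a.1 + b.1) * t ^ i = _
      rw [map_add, add_mul]
  let T : (⨁ i, 𝒜 i) →+* R := DirectSum.toSemiring g
    (by show φ 1 * t ^ 0 = 1; rw [map_one, pow_zero, mul_one])
    (fun {i j} a b => by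
      show φ (a.1 * b.1) * t ^ (i + j) = (φ a.1 * t ^ i) * (φ b.1 * t ^ j)
      rw [map_mul, pow_add]; ring)
  refine ⟨T.comp (DirectSum.decomposeRingEquiv 𝒜).toRingHom, fun i a ha => ?_⟩
  show T (DirectSum.decompose 𝒜 a) = _
  rw [DirectSum.decompose_of_mem 𝒜 ha, DirectSum.toSemiring_of]
  rfl

theorem ringHom_ext {R : Type u} [CommRing R] {φ ψ : A →+* R}
    (h : ∀ (i : ℕ) (a : A), a ∈ 𝒜 i → φ a = ψ a) : φ = ψ := by
  classical
  refine RingHom.ext fun a => ?_
  rw [← DirectSum.sum_support_decompose 𝒜 a, map_sum, map_sum]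
  exact Finset.sum_congr rfl fun i _ => h i _ (SetLike.coe_mem _)

theorem ringHom_mem {R : Type u} [CommRing R] (φ : A →+* R) (W : Subring R)
    (h : ∀ (i : ℕ) (a : A), a ∈ 𝒜 i → φ a ∈ W) (a : A) : φ a ∈ W := by
  classical
  rw [← DirectSum.sum_support_decompose 𝒜 a, map_sum]
  exact W.sum_mem fun i _ => h i _ (SetLike.coe_mem _)

/-- An element killed by `s' - s` is killed by a power of `s`. -/
theorem exists_pow_mul_eq_zero {d : ℕ} {s s' : A} (hs : s ∈ 𝒜 d) (hs' : s' ∈ 𝒜 (d + 1)) {a : A}
    (h : a * (s' - s) = 0) : ∃ N : ℕ, s ^ N * a = 0 := by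
  classical
  have h' : s' * a = s * a := by
    rw [← sub_eq_zero, ← sub_mul, mul_comm, h]
  have key : ∀ j, s ^ (j + 1) * (decompose 𝒜 a j : A) = 0 := by
    intro j
    induction j with
    | zero =>
      have h1 := congrArg (fun z => (decompose 𝒜 z (d + 0) : A)) h'
      simp only at h1
      rw [DirectSum.coe_decompose_mul_add_of_left_mem 𝒜 hs,
        DirectSum.coe_decompose_mul_of_left_mem_of_not_le 𝒜 hs' (by omega)] at h1
      rw [pow_one]
      exact h1.symm
    | succ j ih =>
      have h1 := congrArg (fun z => (decompose 𝒜 z (d + (j + 1)) : A)) h'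
      simp only at h1
      rw [DirectSum.coe_decompose_mul_add_of_left_mem 𝒜 hs, show d + (j + 1) = d + 1 + j by omega,
        DirectSum.coe_decompose_mul_add_of_left_mem 𝒜 hs'] at h1
      rw [pow_succ, mul_assoc, ← h1, mul_left_comm, ih, mul_zero]
  refine ⟨(decompose 𝒜 a).support.sup id + 1, ?_⟩
  suffices hsum : s ^ ((decompose 𝒜 a).support.sup id + 1) *
      (∑ i ∈ (decompose 𝒜 a).support, (decompose 𝒜 a i : A)) = 0 by
    rwa [DirectSum.sum_support_decompose 𝒜 a] at hsum
  rw [Finset.mul_sum]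
  refine Finset.sum_eq_zero fun i hi => ?_
  obtain ⟨m, hm⟩ := Nat.exists_eq_add_of_le (show i + 1 ≤ (decompose 𝒜 a).support.sup id + 1 from
    Nat.succ_le_succ (Finset.le_sup (f := id) hi))
  rw [hm, pow_add, mul_right_comm, key, zero_mul]

variable {d : ℕ} {s s' : A} (hs : s ∈ 𝒜 d) (hs' : s' ∈ 𝒜 (d + 1))
include hs hs'

theorem regular_sub : IsSMulRegular (Localization.Away (s * s'))
    (algebraMap A (Localization.Away (s * s')) (s' - s)) := by
  rw [isSMulRegular_iff_right_eq_zero_of_smul]
  intro y hy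
  obtain ⟨⟨a, w⟩, hw⟩ := IsLocalization.surj (Submonoid.powers (s * s')) y
  have h1 : algebraMap A (Localization.Away (s * s')) (a * (s' - s)) = 0 := by
    rw [map_mul, ← hw, mul_right_comm, mul_comm y, ← smul_eq_mul (a := algebraMap A _ (s' - s)), hy, zero_mul]
  obtain ⟨⟨v, k, rfl⟩, hv⟩ := (IsLocalization.map_eq_zero_iff (Submonoid.powers (s * s')) _ _).1 h1
  obtain ⟨N, hN⟩ := exists_pow_mul_eq_zero 𝒜 hs hs' (a := (s * s') ^ k * a) (by rw [mul_assoc]; exact hv)
  refine (IsLocalization.map_units _ w).mul_left_eq_zero.1 ?_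
  rw [hw, IsLocalization.map_eq_zero_iff (Submonoid.powers (s * s'))]
  refine ⟨⟨(s * s') ^ (N + k), N + k, rfl⟩, ?_⟩
  show (s * s') ^ (N + k) * a = 0
  rw [pow_add, mul_assoc, mul_pow, mul_comm (s ^ N), mul_assoc, hN, mul_zero]

/-- The degree-zero localisation is `A_f/(s' - s)` for `f = s s'`. -/
theorem nonempty_away_equiv : Nonempty (HomogeneousLocalization.Away 𝒜 (s * s') ≃+*
    Localization.Away (s * s') ⧸ Ideal.span {algebraMap A (Localization.Away (s * s')) (s' - s)}) := by
  let f := s * s'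
  let e := d + (d + 1)
  have hf : f ∈ 𝒜 e := SetLike.mul_mem_graded hs hs'
  let L := Localization.Away f
  let ι := algebraMap A L
  let v : L := IsLocalization.Away.invSelf f
  have hv : ι f * v = 1 := IsLocalization.Away.mul_invSelf f
  have hfss : ι f = ι s * ι s' := map_mul _ _ _
  let u : L := ι (s * s) * v
  let u' : L := ι (s' * s') * v
  have huu : u * u' = 1 := by
    show ι (s * s) * v * (ι (s' * s') * v) = 1
    calc _ = (ι f * v) * (ι f * v) := by rw [hfss, map_mul, map_mul]; ring
      _ = 1 := by rw [hv, mul_one]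
  have hsu : ι s' * u = ι s := by
    show ι s' * (ι (s * s) * v) = ι s
    calc _ = ι s * (ι f * v) := by rw [hfss, map_mul]; ring
      _ = ι s := by rw [hv, mul_one]
  obtain ⟨ε, hε⟩ := exists_degEval 𝒜 ι u
  have hεf : IsUnit (ε f) := by
    rw [hε e f hf]
    exact (IsLocalization.Away.algebraMap_isUnit f).mul ((IsUnit.of_mul_eq_one _ huu).pow _)
  let ε' : L →+* L := IsLocalization.Away.lift f hεf
  have hε' : ∀ a, ε' (ι a) = ε a := IsLocalization.Away.lift_eq f hεf
  -- the degree zero part
  let val : HomogeneousLocalization.Away 𝒜 f →+* L :=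
    { toFun := HomogeneousLocalization.val
      map_one' := HomogeneousLocalization.val_one
      map_mul' := HomogeneousLocalization.val_mul
      map_zero' := HomogeneousLocalization.val_zero
      map_add' := HomogeneousLocalization.val_add }
  have hmk : ∀ (k : ℕ) (a : A) (ha : a ∈ 𝒜 (k • e)),
      val (HomogeneousLocalization.Away.mk 𝒜 hf k a ha) = ι a * v ^ k := fun k a ha => by
    show (HomogeneousLocalization.Away.mk 𝒜 hf k a ha).val = _
    rw [HomogeneousLocalization.Away.val_mk, Localization.mk_eq_mk', IsLocalization.mk'_eq_iff_eq_mul]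
    show ι a = ι a * v ^ k * ι (f ^ k)
    rw [map_pow, mul_assoc, ← mul_pow, mul_comm v, hv, one_pow, mul_one]
  have hεv : ε' v * ι f * u ^ e = 1 := by
    rw [mul_assoc, ← hε e f hf, ← hε', ← map_mul, mul_comm v, hv, map_one]
  have hfix : ∀ z, ε' (val z) = val z := fun z => by
    obtain ⟨k, a, ha, rfl⟩ := HomogeneousLocalization.Away.mk_surjective 𝒜 hf z
    have hvv : ε' v = v * u' ^ e := by
      calc ε' v = ε' v * ((ι f * v) * (u * u') ^ e) := by rw [hv, huu, one_pow, mul_one, mul_one]
        _ = (ε' v * ι f * u ^ e) * (v * u' ^ e) := by ring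
        _ = v * u' ^ e := by rw [hεv, one_mul]
    rw [hmk, map_mul, map_pow, hε', hε _ a ha, hvv, smul_eq_mul]
    calc ι a * u ^ (k * e) * (v * u' ^ e) ^ k = ι a * v ^ k * (u * u') ^ (k * e) := by ring
      _ = _ := by rw [huu, one_pow, mul_one]
  let W := val.range
  have hu'W : u' ^ e * v ∈ W := by
    refine ⟨HomogeneousLocalization.Away.mk 𝒜 hf (e + 1) ((s' * s') ^ e) ?_, ?_⟩
    · have h := SetLike.pow_mem_graded (A := 𝒜) e (SetLike.mul_mem_graded hs' hs')
      rwa [show e • (d + 1 + (d + 1)) = (e + 1) • e by simp only [smul_eq_mul, e]; ring] at h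
    · rw [hmk, map_pow]
      show ι (s' * s') ^ e * v ^ (e + 1) = (ι (s' * s') * v) ^ e * v
      ring
  have hεW : ∀ a, ε a ∈ W := ringHom_mem 𝒜 ε W fun i a ha => by
    refine ⟨HomogeneousLocalization.Away.mk 𝒜 hf i (a * (s * s) ^ i) ?_, ?_⟩
    · have h := SetLike.mul_mem_graded ha (SetLike.pow_mem_graded (A := 𝒜) i (SetLike.mul_mem_graded hs hs))
      rwa [show i + i • (d + d) = i • e by simp only [smul_eq_mul, e]; ring] at h
    · rw [hmk, hε i a ha, map_mul, map_pow]
      show ι a * ι (s * s) ^ i * v ^ i = ι a * (ι (s * s) * v) ^ i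
      ring
  have hε'W : ∀ y, ε' y ∈ W := fun y => by
    obtain ⟨⟨a, w⟩, hw⟩ := IsLocalization.surj (Submonoid.powers f) y
    obtain ⟨k, hk⟩ := w.2
    have h1 : ε' y * (ι f * u ^ e) ^ k = ε a := by
      rw [← hε e f hf, ← map_pow, ← hε', ← map_mul, ← hε', show f ^ k = w.1 from hk]
      exact congrArg ε' hw
    have h2 : ε' y = ε a * (u' ^ e * v) ^ k := by
      calc ε' y = ε' y * ((ι f * v) * (u * u') ^ e) ^ k := by rw [hv, huu, one_pow, mul_one, one_pow, mul_one]
        _ = ε' y * (ι f * u ^ e) ^ k * (u' ^ e * v) ^ k := by ring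
        _ = _ := by rw [h1]
    rw [h2]
    exact W.mul_mem (hεW a) (W.pow_mem hu'W k)
  let I : Ideal L := Ideal.span {ι (s' - s)}
  have hmkε : (Ideal.Quotient.mk I).comp ε' = Ideal.Quotient.mk I := by
    refine IsLocalization.ringHom_ext (Submonoid.powers f) (ringHom_ext 𝒜 fun i a ha => ?_)
    show Ideal.Quotient.mk I (ε' (ι a)) = Ideal.Quotient.mk I (ι a)
    rw [hε', hε i a ha, map_mul, map_pow]
    have hu1 : Ideal.Quotient.mk I u = 1 := by
      rw [← map_one (Ideal.Quotient.mk I), Ideal.Quotient.mk_eq_mk_iff_sub_mem, Ideal.mem_span_singleton']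
      refine ⟨-(ι s * v), ?_⟩
      calc -(ι s * v) * ι (s' - s) = ι (s * s) * v - ι f * v := by rw [hfss, map_sub, map_mul]; ring
        _ = u - 1 := by rw [hv]
    rw [hu1, one_pow, mul_one]
  have hker : I ≤ RingHom.ker ε' := by
    rw [Ideal.span_le, Set.singleton_subset_iff, SetLike.mem_coe, RingHom.mem_ker, hε', map_sub, hε _ _ hs',
      hε _ _ hs, pow_succ']
    rw [← mul_assoc, hsu, sub_self]
  refine ⟨RingEquiv.ofBijective ((Ideal.Quotient.mk I).comp val)
    ⟨(injective_iff_map_eq_zero _).2 fun z hz => ?_, fun w => ?_⟩⟩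
  · have h1 : ε' (val z) = 0 := hker (Ideal.Quotient.eq_zero_iff_mem.1 hz)
    rw [hfix] at h1
    exact HomogeneousLocalization.val_injective _ (h1.trans HomogeneousLocalization.val_zero.symm)
  · obtain ⟨y, rfl⟩ := Ideal.Quotient.mk_surjective w
    obtain ⟨z, hz⟩ := hε'W y
    exact ⟨z, (congrArg (Ideal.Quotient.mk I) hz).trans (RingHom.congr_fun hmkε y)⟩

omit hs hs' in
theorem isGorensteinRing_quotient_regular {B : Type u} [CommRing B] [LocCoh.IsGorensteinRing B] {g : B}
    (hg : IsSMulRegular B g) : LocCoh.IsGorensteinRing (B ⧸ Ideal.span {g}) where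
  isGorensteinLocalRing_localization P' _ := by
    let P : Ideal B := P'.comap (Ideal.Quotient.mk (Ideal.span {g}))
    haveI : P.IsPrime := Ideal.IsPrime.comap _
    have hgP : Ideal.span {g} ≤ P := fun x hx => by
      show Ideal.Quotient.mk _ x ∈ P'
      rw [Ideal.Quotient.eq_zero_iff_mem.2 hx]
      exact zero_mem _
    refine GorLib.gorenstein_atPrime_quotient _ P hgP P'
      (Ideal.map_comap_of_surjective _ Ideal.Quotient.mk_surjective _).symm ?_
    let L := Localization.AtPrime P
    haveI := LocCoh.IsGorensteinRing.isGorensteinLocalRing_localization (A := B) P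
    have hreg : RingTheory.Sequence.IsWeaklyRegular L [algebraMap B L g] :=
      RingTheory.Sequence.IsWeaklyRegular.of_isLocalization (R := B) (S := L) P.primeCompl (rs := [g])
        ((RingTheory.Sequence.isWeaklyRegular_singleton_iff B g).2 hg)
    have hm : ∀ a ∈ [algebraMap B L g], a ∈ IsLocalRing.maximalIdeal L := fun a ha => by
      rw [List.mem_singleton.1 ha, ← Localization.AtPrime.map_eq_maximalIdeal]
      exact Ideal.mem_map_of_mem _ (hgP (Ideal.mem_span_singleton_self g))
    haveI := (GorLib.isGorensteinLocalRing_quotient_ofList_iff _ _ rfl hreg hm).1 inferInstance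
    exact SegreOne.isGorensteinLocalRing_of_ringEquiv (A := L ⧸ Ideal.ofList [algebraMap B L g])
      (B := L ⧸ (Ideal.span {g}).map (algebraMap B L))
      (Ideal.quotEquivOfEq (by rw [Ideal.ofList_singleton, Ideal.map_span, Set.image_singleton]))

theorem isGorensteinRing_away [LocCoh.IsGorensteinRing A] :
    LocCoh.IsGorensteinRing (HomogeneousLocalization.Away 𝒜 (s * s')) := by
  obtain ⟨e⟩ := nonempty_away_equiv 𝒜 hs hs'
  haveI : LocCoh.IsGorensteinRing (Localization.Away (s * s')) :=
    GorLib.isGorensteinRing_of_isLocalization (S := A) (Submonoid.powers (s * s'))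
  haveI := isGorensteinRing_quotient_regular (regular_sub 𝒜 hs hs')
  exact SegreOne.isGorensteinRing_of_ringEquiv
    (A := Localization.Away (s * s') ⧸ Ideal.span {algebraMap A (Localization.Away (s * s')) (s' - s)})
    (B := HomogeneousLocalization.Away 𝒜 (s * s')) e.symm

end Groth.Agent.ProjCM
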