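import Mathlib

/-!
Charts of `Proj`: local rings and homogeneous elements off a point.
-/

set_option autoImplicit false
universe u

open AlgebraicGeometry CategoryTheory

namespace Groth.Agent.ProjCM

variable {A : Type u} [CommRing A] (𝒜 : ℕ → AddSubgroup A) [GradedRing 𝒜]

/-- A point of `Proj` misses a homogeneous element of positive degree. -/
theorem exists_notMem (x : Proj 𝒜) : ∃ e : ℕ, 0 < e ∧ ∃ s ∈ 𝒜 e, s ∉ x.asHomogeneousIdeal := by
  classical
  by_contra h
  push Not at h
  refine x.not_irrelevant_le fun a ha => ?_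
  have ha' : GradedRing.proj 𝒜 0 a = 0 := ha
  rw [← DirectSum.sum_support_decompose 𝒜 a]
  refine sum_mem fun i _ => ?_
  rcases Nat.eq_zero_or_pos i with rfl | hi
  · rw [← GradedRing.proj_apply, ha']
    exact zero_mem _
  · exact h i hi _ (SetLike.coe_mem _)

/-- The local ring at a point of `D₊(f)` is a local ring of the degree-zero localisation. -/
theorem exists_stalk_equiv (x : Proj 𝒜) {f : A} {e : ℕ} (hf : f ∈ 𝒜 e) (he : 0 < e)
    (hx : f ∉ x.asHomogeneousIdeal) :
    ∃ y : PrimeSpectrum (HomogeneousLocalization.Away 𝒜 f),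
      Nonempty ((Proj 𝒜).presheaf.stalk x ≃+* Localization.AtPrime y.asIdeal) := by
  have hmem : x ∈ (Proj.awayι 𝒜 f hf he).opensRange := by
    rw [Proj.opensRange_awayι]
    exact (Proj.mem_basicOpen 𝒜 f x).2 hx
  obtain ⟨y, rfl⟩ := hmem
  exact ⟨y, ⟨(asIso ((Proj.awayι 𝒜 f hf he).stalkMap y)).commRingCatIsoToRingEquiv.trans
    (StructureSheaf.stalkIso _ y).toRingEquiv.symm⟩⟩

end Groth.Agent.ProjCM
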