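import Groth.Prelude.Def_CAlg
import Groth.Agent.DepthLib.CMModule
import Groth.Agent.DepthLib.RegularLocal
import Groth.Agent.DepthLib.Reduced
import Groth.Agent.Catenary.CM

/-!
A ring with an integral Cohen–Macaulay extension which has a retraction and satisfies going down for
it is Cohen–Macaulay.
-/

set_option autoImplicit false
set_option linter.style.haveILetI false
set_option linter.unusedVariables false
universe u

open LocCoh
open scoped Pointwise

namespace Groth.Agent.ProjCM

/-- Elements of `q` cutting down the height one at a time. -/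
theorem exists_height_seq {R : Type u} [CommRing R] [IsNoetherianRing R] (q : Ideal R) [q.IsPrime] :
    ∀ n : ℕ, (n : ℕ∞) ≤ q.height → ∃ as : List R, as.length = n ∧ (∀ a ∈ as, a ∈ q) ∧
      ∀ i ≤ n, ∀ q' : Ideal R, q'.IsPrime → q' ≤ q → (∀ a ∈ as.take i, a ∈ q') → (i : ℕ∞) ≤ q'.height := by
  classical
  intro n
  induction n with
  | zero => exact fun _ => ⟨[], rfl, by simp, fun i hi q' _ _ _ => by simp [Nat.le_zero.1 hi]⟩
  | succ n ih =>
    intro hn
    obtain ⟨as, hlen, hmem, has⟩ := ih (le_trans (by exact_mod_cast n.le_succ) hn)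
    let T : Set (Ideal R) := {Q ∈ (Ideal.ofList as).minimalPrimes | Q ≤ q ∧ Q.height = n}
    have hfin : T.Finite := Set.Finite.subset (Ideal.finite_minimalPrimes_of_isNoetherianRing R _) fun Q hQ => hQ.1
    obtain ⟨a, haq, haT⟩ : ∃ a ∈ q, ∀ Q ∈ T, a ∉ Q := by
      by_contra hne
      push Not at hne
      have hsub : (q : Set R) ⊆ ⋃ Q ∈ (↑hfin.toFinset : Set (Ideal R)), ((id Q : Ideal R) : Set R) := fun a ha => by
        obtain ⟨Q, hQ, haQ⟩ := hne a ha
        exact Set.mem_iUnion₂.2 ⟨Q, hfin.mem_toFinset.2 hQ, haQ⟩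
      obtain ⟨Q, hQ, hle⟩ := (Ideal.subset_union_prime (⊥ : Ideal R) ⊥ fun Q hQ _ _ =>
        (hfin.mem_toFinset.1 hQ).1.isPrime).1 hsub
      obtain ⟨-, -, hQn⟩ := hfin.mem_toFinset.1 hQ
      have h1 : q.height ≤ Q.height := Ideal.height_mono hle
      rw [hQn] at h1
      exact absurd (Nat.cast_le.1 (hn.trans h1)) (by omega)
    refine ⟨as ++ [a], by simp [hlen], fun b hb => ?_, fun i hi q' hq' hle hq'mem => ?_⟩
    · rcases List.mem_append.1 hb with hb | hb
      · exact hmem b hb
      · rwa [List.mem_singleton.1 hb]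
    rcases Nat.lt_or_ge i (n + 1) with hlt | hge
    · refine has i (by omega) q' hq' hle ?_
      rwa [List.take_append_of_le_length (by omega)] at hq'mem
    obtain rfl : i = n + 1 := le_antisymm hi hge
    rw [List.take_of_length_le (by simp [hlen])] at hq'mem
    have hJ : Ideal.ofList as ≤ q' := Ideal.span_le.2 fun b hb => hq'mem b (List.mem_append_left _ hb)
    haveI := hq'
    obtain ⟨Q, hQ, hQle⟩ := Ideal.exists_minimalPrimes_le hJ
    haveI := hQ.isPrime
    have hQn : (n : ℕ∞) ≤ Q.height := has n le_rfl Q hQ.isPrime (hQle.trans hle) fun b hb =>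
      hQ.le (Ideal.subset_span (List.mem_of_mem_take hb))
    rcases hQle.lt_or_eq with hlt | rfl
    · exact le_trans (by push_cast; exact add_le_add hQn le_rfl) (Ideal.height_add_one_le_of_lt_of_isPrime hlt)
    · by_contra hh
      refine haT Q ⟨hQ, hle, le_antisymm ?_ hQn⟩ (hq'mem a (by simp))
      obtain ⟨m, hm⟩ := ENat.ne_top_iff_exists.1 (Ideal.height_ne_top (I := Q) hQ.isPrime.ne_top)
      rw [← hm] at hh ⊢
      norm_cast at hh ⊢
      omega

/-- In a Cohen–Macaulay local ring a sequence cutting down the height is regular. -/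
theorem isWeaklyRegular_of_height {L : Type u} [CommRing L] [IsCohenMacaulayLocalRing L] (rs : List L)
    (hm : ∀ r ∈ rs, r ∈ IsLocalRing.maximalIdeal L)
    (h : ∀ q : Ideal L, q.IsPrime → (∀ r ∈ rs, r ∈ q) → (rs.length : ℕ∞) ≤ q.height) :
    RingTheory.Sequence.IsWeaklyRegular L rs := by
  have hle : Ideal.ofList rs ≤ IsLocalRing.maximalIdeal L := Ideal.span_le.2 hm
  haveI : Nontrivial (L ⧸ Ideal.ofList rs) := Ideal.Quotient.nontrivial_iff.2
    (ne_top_of_le_ne_top (IsLocalRing.maximalIdeal.isMaximal L).ne_top hle)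
  refine DepthLib.isWeaklyRegular_of_supportDim_drop rs L DepthLib.isCohenMacaulayModule_self hm ?_
  rw [Module.supportDim_eq_of_equiv (Submodule.quotEquivOfEq (Ideal.ofList rs • ⊤ : Submodule L L) (Ideal.ofList rs)
    (by rw [smul_eq_mul, Ideal.mul_top]))]
  obtain ⟨q, hq, hqd⟩ := DepthLib.exists_mem_support_ringKrullDim_eq (R := L) (M := L ⧸ Ideal.ofList rs)
  have hIq : Ideal.ofList rs ≤ q.asIdeal := by
    have h0 := Module.mem_support_iff_of_finite.1 hq
    rwa [Ideal.annihilator_quotient] at h0
  have hqB : q ∈ Module.support L L := by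
    rw [Module.mem_support_iff']
    exact ⟨1, fun r hr => by rw [smul_eq_mul, mul_one]; exact fun h0 => hr (h0 ▸ Submodule.zero_mem _)⟩
  have h1 := DepthLib.supportDim_localization_add_le q hqB
  rw [DepthLib.supportDim_localization_self, hqd] at h1
  refine le_trans ?_ h1
  rw [add_comm]
  exact add_le_add (WithBot.coe_le_coe.2 (h q.asIdeal q.isPrime fun r hr => hIq (Ideal.subset_span hr))) le_rfl

variable {R Q : Type u} [CommRing R] [CommRing Q] [Algebra R Q] (φ : Q →ₗ[R] R) (hφ : φ 1 = 1)
include hφ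

theorem mem_of_mem_map {I : Ideal R} {x : Q} (hx : x ∈ I.map (algebraMap R Q)) : φ x ∈ I := by
  suffices h : ∀ v : Q, φ (x * v) ∈ I by simpa using h 1
  refine Submodule.span_induction (p := fun y _ => ∀ v : Q, φ (y * v) ∈ I) ?_ ?_ ?_ ?_ hx
  · rintro _ ⟨r, hr, rfl⟩ v
    rw [← Algebra.smul_def, map_smul]
    exact Ideal.mul_mem_right _ _ hr
  · intro v; simp
  · intro y z _ _ hy hz v
    rw [add_mul, map_add]; exact add_mem (hy v) (hz v)
  · intro c y _ hy v
    rw [smul_eq_mul, mul_comm c, mul_assoc]; exact hy _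

theorem algebraMap_apply_retract (r : R) : φ (algebraMap R Q r) = r := by
  rw [Algebra.algebraMap_eq_smul_one, map_smul, hφ, smul_eq_mul, mul_one]

theorem isNoetherianRing_of_retract [IsNoetherianRing Q] : IsNoetherianRing R := by
  rw [isNoetherianRing_iff, isNoetherian_iff']
  refine (OrderEmbedding.ofMapLEIff (fun I : Ideal R => I.map (algebraMap R Q)) fun I J => ?_).wellFoundedGT
  refine ⟨fun h r hr => ?_, Ideal.map_mono⟩
  rw [← algebraMap_apply_retract φ hφ r]
  exact mem_of_mem_map φ hφ (h (Ideal.mem_map_of_mem _ hr))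

variable (hgd : ∀ (P : Ideal Q) [P.IsPrime] (u : Q), (∀ v, φ (u * v) ∈ P.comap (algebraMap R Q)) → u ∈ P)
include hgd

theorem hasGoingDown : Algebra.HasGoingDown R Q where
  exists_ideal_le_liesOver_of_lt := @fun p hp P hP hlt => by
    haveI := hp
    haveI := hP
    let S : Submonoid Q :=
      { carrier := {x | ∃ r : R, r ∉ p ∧ ∃ u : Q, u ∉ P ∧ x = algebraMap R Q r * u}
        one_mem' := ⟨1, fun h => hp.ne_top ((Ideal.eq_top_iff_one _).2 h), 1,
          fun h => hP.ne_top ((Ideal.eq_top_iff_one _).2 h), by rw [map_one, mul_one]⟩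
        mul_mem' := by
          rintro _ _ ⟨r, hr, u, hu, rfl⟩ ⟨r', hr', u', hu', rfl⟩
          exact ⟨r * r', fun h => (hp.mem_or_mem h).elim hr hr', u * u', fun h => (hP.mem_or_mem h).elim hu hu',
            by rw [map_mul]; ring⟩ }
    have hdisj : Disjoint (p.map (algebraMap R Q) : Set Q) (S : Set Q) := by
      refine Set.disjoint_left.2 fun x hx => ?_
      rintro ⟨r, hr, u, hu, rfl⟩
      refine hu (hgd P u fun v => hlt.le ?_)
      have h1 := mem_of_mem_map φ hφ (Ideal.mul_mem_right v _ hx)
      rw [mul_assoc, ← Algebra.smul_def, map_smul] at h1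
      exact (hp.mem_or_mem h1).resolve_left hr
    obtain ⟨P', hP', hle, hd⟩ := Ideal.exists_le_prime_disjoint _ S hdisj
    refine ⟨P', fun x hx => ?_, hP', ⟨le_antisymm (fun r hr => hle (Ideal.mem_map_of_mem _ hr)) fun r hr => ?_⟩⟩
    · by_contra hxP
      exact Set.disjoint_left.1 hd hx ⟨1, fun h => hp.ne_top ((Ideal.eq_top_iff_one _).2 h), x, hxP,
        by rw [map_one, one_mul]⟩
    · by_contra hrp
      exact Set.disjoint_left.1 hd (show algebraMap R Q r ∈ P' from hr)
        ⟨r, hrp, 1, fun h => hP.ne_top ((Ideal.eq_top_iff_one _).2 h), by rw [mul_one]⟩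

theorem isCohenMacaulayRing_of_retract [IsCohenMacaulayRing Q] [Algebra.IsIntegral R Q] :
    IsCohenMacaulayRing R := by
  classical
  haveI := isNoetherianRing_of_retract φ hφ
  haveI := hasGoingDown φ hφ hgd
  refine { isCohenMacaulayLocalRing_localization := fun q _ => ?_ }
  let L := Localization.AtPrime q
  obtain ⟨h, hh⟩ := ENat.ne_top_iff_exists.1 (Ideal.height_ne_top (I := q) Ideal.IsPrime.ne_top')
  obtain ⟨as, hlen, hmem, has⟩ := exists_height_seq q h hh.le
  rw [DepthLib.isCohenMacaulayLocalRing_iff, IsLocalization.AtPrime.ringKrullDim_eq_height q L, ← hh]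
  refine WithBot.coe_le_coe.2 (DepthLib.natCast_le_depth_iff.2
    ⟨as.map (algebraMap R L), by simp [hlen], ⟨fun i hi => ?_⟩, fun a ha => ?_⟩)
  swap
  · obtain ⟨b, hb, rfl⟩ := List.mem_map.1 ha
    rw [← Localization.AtPrime.map_eq_maximalIdeal]
    exact Ideal.mem_map_of_mem _ (hmem b hb)
  have hi' : i < as.length := by simpa using hi
  rw [isSMulRegular_iff_right_eq_zero_of_smul]
  intro z hz
  obtain ⟨z, rfl⟩ := Submodule.Quotient.mk_surjective _ z
  have hJ : (Ideal.ofList ((as.map (algebraMap R L)).take i) • ⊤ : Submodule L L) =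
      (Ideal.ofList (as.take i)).map (algebraMap R L) := by
    rw [smul_eq_mul, Ideal.mul_top, ← List.map_take, Ideal.map_ofList]
  rw [← Submodule.Quotient.mk_smul, Submodule.Quotient.mk_eq_zero, hJ, List.getElem_map, smul_eq_mul] at hz
  rw [Submodule.Quotient.mk_eq_zero, hJ]
  obtain ⟨⟨r, s⟩, hrs⟩ := IsLocalization.surj q.primeCompl z
  let J := Ideal.ofList (as.take i)
  have h1 : algebraMap R L (as[i] * r) ∈ J.map (algebraMap R L) := by
    rw [map_mul, ← hrs, ← mul_assoc]
    exact Ideal.mul_mem_right _ _ hz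
  obtain ⟨t, ht, htr⟩ := (IsLocalization.algebraMap_mem_map_algebraMap_iff q.primeCompl L _ _).1 h1
  -- the colon ideal in the extension
  let C : Ideal Q := Submodule.colon (J.map (algebraMap R Q)) {algebraMap R Q r}
  obtain ⟨t', ht', htC⟩ : ∃ t' : R, t' ∉ q ∧ algebraMap R Q t' ∈ C := by
    by_contra hne
    push Not at hne
    obtain ⟨P, hP, hPp, hPq⟩ := Ideal.exists_ideal_over_prime_of_isIntegral q C
      (fun x hx => by_contra fun hxq => hne x hxq hx)
    haveI := hPp
    let QP := Localization.AtPrime P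
    haveI : IsCohenMacaulayLocalRing QP := IsCohenMacaulayRing.isCohenMacaulayLocalRing_localization P
    let ι : R →+* QP := (algebraMap Q QP).comp (algebraMap R Q)
    have hreg : RingTheory.Sequence.IsWeaklyRegular QP ((as.take (i + 1)).map ι) := by
      refine isWeaklyRegular_of_height _ (fun x hx => ?_) fun W hW hWmem => ?_
      · obtain ⟨b, hb, rfl⟩ := List.mem_map.1 hx
        rw [← Localization.AtPrime.map_eq_maximalIdeal]
        refine Ideal.mem_map_of_mem _ ?_
        show b ∈ P.comap (algebraMap R Q)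
        rw [hPq]
        exact hmem b (List.mem_of_mem_take hb)
      · haveI := hW
        let P' : Ideal Q := W.comap (algebraMap Q QP)
        haveI : P'.IsPrime := Ideal.IsPrime.comap _
        let q' : Ideal R := P'.comap (algebraMap R Q)
        haveI : q'.IsPrime := Ideal.IsPrime.comap _
        haveI : P'.LiesOver q' := ⟨rfl⟩
        have hP'P : P' ≤ P := fun x hx => by
          by_contra hxP
          exact hW.ne_top (Ideal.eq_top_of_isUnit_mem W hx (IsLocalization.map_units QP (⟨x, hxP⟩ : P.primeCompl)))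
        have hq'q : q' ≤ q := (Ideal.comap_mono hP'P).trans hPq.le
        rw [← IsLocalization.height_under P.primeCompl W]
        refine le_trans ?_ (le_of_le_of_eq le_self_add (Ideal.height_eq_height_add_of_liesOver_of_hasGoingDown q' P').symm)
        rw [List.length_map, List.length_take, min_eq_left (by omega)]
        exact has (i + 1) (by omega) q' inferInstance hq'q fun b hb => hWmem _ (List.mem_map.2 ⟨b, hb, rfl⟩)
    have hlt : i < ((as.take (i + 1)).map ι).length := by simp; omega
    have h2 := hreg.regular_mod_prev i hlt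
    have h3 : ι r ∈ J.map ι := by
      have e : (Ideal.ofList (((as.take (i + 1)).map ι).take i) • ⊤ : Submodule QP QP) = J.map ι := by
        rw [smul_eq_mul, Ideal.mul_top, ← List.map_take, List.take_take, min_eq_left (Nat.le_succ i), Ideal.map_ofList]
      have h4 : (Submodule.Quotient.mk (ι r) : QP ⧸ (Ideal.ofList (((as.take (i + 1)).map ι).take i) • ⊤ : Submodule QP QP)) = 0 := by
        refine h2.right_eq_zero_of_smul ?_
        rw [← Submodule.Quotient.mk_smul, Submodule.Quotient.mk_eq_zero, e, smul_eq_mul, List.getElem_map,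
          List.getElem_take, ← map_mul]
        have h5 := Ideal.mem_map_of_mem ι htr
        rw [map_mul] at h5
        refine (Ideal.unit_mul_mem_iff_mem _ ?_).1 h5
        exact IsLocalization.map_units QP (⟨algebraMap R Q t, fun hmemP => ht (hPq ▸ hmemP)⟩ : P.primeCompl)
      rw [Submodule.Quotient.mk_eq_zero, e] at h4
      exact h4
    rw [show J.map ι = (J.map (algebraMap R Q)).map (algebraMap Q QP) from (Ideal.map_map _ _).symm] at h3
    obtain ⟨w, hw, hwr⟩ := (IsLocalization.algebraMap_mem_map_algebraMap_iff P.primeCompl QP _ _).1 h3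
    exact hw (hP (Submodule.mem_colon_singleton.2 hwr))
  have h6 : t' * r ∈ J := by
    have h7 := Submodule.mem_colon_singleton.1 htC
    rw [smul_eq_mul, ← map_mul] at h7
    rw [← algebraMap_apply_retract φ hφ (t' * r)]
    exact mem_of_mem_map φ hφ h7
  have h8 := Ideal.mem_map_of_mem (algebraMap R L) h6
  rw [map_mul, ← hrs] at h8
  have h9 := (Ideal.unit_mul_mem_iff_mem _ (IsLocalization.map_units L (⟨t', ht'⟩ : q.primeCompl))).1 h8
  rw [mul_comm] at h9
  exact (Ideal.unit_mul_mem_iff_mem _ (IsLocalization.map_units L s)).1 h9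

end Groth.Agent.ProjCM
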