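import Groth.Agent.ProjCM.Core
import Groth.Agent.ProjCM.UnitDegOne
import Groth.Agent.StdMon.CMQuot

/-!
The degree-zero localisation at `s` inside the dehomogenisation `A/(s - 1)`.
-/

set_option autoImplicit false
set_option linter.style.haveILetI false
set_option linter.unusedVariables false
universe u

open DirectSum

namespace Groth.Agent.ProjCM

variable {A : Type u} [CommRing A] (𝒜 : ℕ → AddSubgroup A) [GradedRing 𝒜]

theorem regular_sub_one {d : ℕ} {s : A} (hd : 0 < d) (hs : s ∈ 𝒜 d) : s - 1 ∈ nonZeroDivisors A := by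
  classical
  rw [mem_nonZeroDivisors_iff_right]
  intro a ha
  have h' : s * a = a := by
    rw [← sub_eq_zero, ← ha]; ring
  have key : ∀ n, (decompose 𝒜 a n : A) = 0 := by
    intro n
    induction n using Nat.strong_induction_on with
    | _ n ih =>
      by_cases hn : d ≤ n
      · obtain ⟨m, rfl⟩ := Nat.exists_eq_add_of_le hn
        rw [← h', DirectSum.coe_decompose_mul_add_of_left_mem 𝒜 hs, ih m (by omega), mul_zero]
      · rw [← h', DirectSum.coe_decompose_mul_of_left_mem_of_not_le 𝒜 hs hn]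
  rw [← DirectSum.sum_support_decompose 𝒜 a]
  exact Finset.sum_eq_zero fun i _ => key i

open Classical in
/-- Component `a ↦ a / s ^ (i / d)` for `d ∣ i`. -/
noncomputable def compFun {d : ℕ} {s : A} (hs : s ∈ 𝒜 d) (i : ℕ) (a : A) : HomogeneousLocalization.Away 𝒜 s :=
  if h : a ∈ 𝒜 i ∧ d ∣ i then HomogeneousLocalization.Away.mk 𝒜 hs (i / d) a
    (by rw [smul_eq_mul, Nat.div_mul_cancel h.2]; exact h.1) else 0

theorem isCohenMacaulayRing_away [LocCoh.IsCohenMacaulayRing A] {d : ℕ} {s : A} (hd : 0 < d) (hs : s ∈ 𝒜 d) :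
    LocCoh.IsCohenMacaulayRing (HomogeneousLocalization.Away 𝒜 s) := by
  classical
  let R0 := HomogeneousLocalization.Away 𝒜 s
  let L := Localization.Away s
  let v : L := IsLocalization.Away.invSelf s
  have hv : algebraMap A L s * v = 1 := IsLocalization.Away.mul_invSelf s
  let I : Ideal A := Ideal.span {s - 1}
  let q : A →+* A ⧸ I := Ideal.Quotient.mk I
  haveI : LocCoh.IsCohenMacaulayRing (A ⧸ I) :=
    StdMon.isCohenMacaulayRing_quotient_of_regular (regular_sub_one 𝒜 hd hs)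
  have hqs : q s = 1 := by
    rw [← map_one q, Ideal.Quotient.mk_eq_mk_iff_sub_mem]
    exact Ideal.mem_span_singleton_self _
  let π : L →+* A ⧸ I := IsLocalization.Away.lift s (g := q) (by rw [hqs]; exact isUnit_one)
  let val : R0 →+* L :=
    { toFun := HomogeneousLocalization.val
      map_one' := HomogeneousLocalization.val_one
      map_mul' := HomogeneousLocalization.val_mul
      map_zero' := HomogeneousLocalization.val_zero
      map_add' := HomogeneousLocalization.val_add }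
  let mkA : ∀ (k : ℕ) (a : A), a ∈ 𝒜 (k • d) → R0 := fun k a ha => HomogeneousLocalization.Away.mk 𝒜 hs k a ha
  have hmk : ∀ (k : ℕ) (a : A) (ha : a ∈ 𝒜 (k • d)), val (mkA k a ha) = algebraMap A L a * v ^ k := fun k a ha => by
    show (HomogeneousLocalization.Away.mk 𝒜 hs k a ha).val = _
    rw [HomogeneousLocalization.Away.val_mk, Localization.mk_eq_mk', IsLocalization.mk'_eq_iff_eq_mul]
    show algebraMap A L a = algebraMap A L a * v ^ k * algebraMap A L (s ^ k)
    rw [map_pow, mul_assoc, ← mul_pow, mul_comm v, hv, one_pow, mul_one]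
  letI alg : Algebra R0 (A ⧸ I) := (π.comp val).toAlgebra
  have hψ : ∀ (k : ℕ) (a : A) (ha : a ∈ 𝒜 (k • d)), algebraMap R0 (A ⧸ I) (mkA k a ha) = q a := fun k a ha => by
    show π (val (mkA k a ha)) = q a
    have hπv : π v = 1 := by
      have h := congrArg π hv
      rwa [map_mul, map_one, IsLocalization.Away.lift_eq, hqs, one_mul] at h
    rw [hmk, map_mul, map_pow, hπv, one_pow, mul_one, IsLocalization.Away.lift_eq]
  -- the retraction
  have hcomp : ∀ i a, ∀ (h : a ∈ 𝒜 i ∧ d ∣ i), compFun 𝒜 hs i a =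
      mkA (i / d) a (by rw [smul_eq_mul, Nat.div_mul_cancel h.2]; exact h.1) := fun i a h => by
    rw [compFun, dif_pos h]
  have hcomp0 : ∀ i a, ¬ d ∣ i → compFun 𝒜 hs i a = 0 := fun i a h => by
    rw [compFun, dif_neg fun h' => h h'.2]
  have hvalinj : Function.Injective val := HomogeneousLocalization.val_injective _
  let g : ∀ i, 𝒜 i →+ R0 := fun i => AddMonoidHom.mk' (fun a => compFun 𝒜 hs i a.1) fun a b => by
    by_cases hdi : d ∣ i
    · refine hvalinj ?_
      show val (compFun 𝒜 hs i (a.1 + b.1)) = val (compFun 𝒜 hs i a.1 + compFun 𝒜 hs i b.1)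
      rw [map_add, hcomp _ _ ⟨add_mem a.2 b.2, hdi⟩, hcomp _ _ ⟨a.2, hdi⟩, hcomp _ _ ⟨b.2, hdi⟩, hmk, hmk, hmk,
        map_add, add_mul]
    · show compFun 𝒜 hs i (a.1 + b.1) = compFun 𝒜 hs i a.1 + compFun 𝒜 hs i b.1
      rw [hcomp0 _ _ hdi, hcomp0 _ _ hdi, hcomp0 _ _ hdi, add_zero]
  let φA : A →+ R0 := (DirectSum.toAddMonoid g).comp (DirectSum.decomposeAddEquiv 𝒜).toAddMonoidHom
  have hφhom : ∀ i a, a ∈ 𝒜 i → φA a = compFun 𝒜 hs i a := fun i a ha => by
    show DirectSum.toAddMonoid g (decompose 𝒜 a) = _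
    rw [DirectSum.decompose_of_mem 𝒜 ha, DirectSum.toAddMonoid_of]
    rfl
  -- scalars
  have hlin : ∀ (k : ℕ) (b : A) (hb : b ∈ 𝒜 (k • d)) (a : A), φA (b * a) = mkA k b hb * φA a := fun k b hb a => by
    rw [← DirectSum.sum_support_decompose 𝒜 a, Finset.mul_sum, map_sum, map_sum, Finset.mul_sum]
    refine Finset.sum_congr rfl fun i _ => ?_
    have hai : (decompose 𝒜 a i : A) ∈ 𝒜 i := SetLike.coe_mem _
    rw [hφhom _ _ (SetLike.mul_mem_graded hb hai), hφhom _ _ hai]
    by_cases hdi : d ∣ i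
    · have hdi' : d ∣ k • d + i := dvd_add (Dvd.intro_left k rfl) hdi
      refine hvalinj ?_
      rw [map_mul, hcomp _ _ ⟨SetLike.mul_mem_graded hb hai, hdi'⟩, hcomp _ _ ⟨hai, hdi⟩, hmk, hmk, hmk, map_mul,
        show (k • d + i) / d = k + i / d by rw [smul_eq_mul, mul_comm, Nat.mul_add_div hd], pow_add]
      ring
    · have hdi' : ¬ d ∣ k • d + i := fun h => hdi ((Nat.dvd_add_right (Dvd.intro_left k rfl)).1 h)
      rw [hcomp0 _ _ hdi', hcomp0 _ _ hdi, mul_zero]
  have hs1 : mkA 1 s (by rw [one_smul]; exact hs) = 1 := hvalinj (by rw [hmk, map_one, pow_one, hv])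
  have hker : ∀ a ∈ I.toAddSubgroup, φA a = 0 := fun a ha => by
    obtain ⟨c, rfl⟩ := Ideal.mem_span_singleton'.1 (show a ∈ I from ha)
    rw [mul_sub, mul_one, map_sub, mul_comm c s, hlin 1 s (by rw [one_smul]; exact hs), hs1, one_mul, sub_self]
  let φ₀ : (A ⧸ I) →+ R0 := QuotientAddGroup.lift I.toAddSubgroup φA hker
  have hφ₀ : ∀ a, φ₀ (q a) = φA a := fun a => rfl
  let φ : (A ⧸ I) →ₗ[R0] R0 :=
    { φ₀ with
      map_smul' := fun r w => by
        obtain ⟨k, b, hb, rfl⟩ := HomogeneousLocalization.Away.mk_surjective 𝒜 hs r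
        obtain ⟨a, rfl⟩ := Ideal.Quotient.mk_surjective w
        show φ₀ (mkA k b hb • q a) = mkA k b hb • φ₀ (q a)
        rw [Algebra.smul_def, hψ, ← map_mul, hφ₀, hφ₀, hlin k b hb, smul_eq_mul] }
  have hφ1 : φ 1 = 1 := by
    show φ₀ (1 : A ⧸ I) = 1
    rw [← map_one q, hφ₀, hφhom 0 1 (SetLike.one_mem_graded 𝒜), hcomp 0 1 ⟨SetLike.one_mem_graded 𝒜, dvd_zero d⟩]
    refine hvalinj ?_
    rw [hmk, map_one, map_one, Nat.zero_div, pow_zero, one_mul]
  haveI : Algebra.IsIntegral R0 (A ⧸ I) := by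
    refine ⟨fun w => ?_⟩
    obtain ⟨a, rfl⟩ := Ideal.Quotient.mk_surjective w
    rw [← DirectSum.sum_support_decompose 𝒜 a, map_sum]
    refine IsIntegral.sum _ fun i _ => IsIntegral.of_pow hd ?_
    have hmem : (decompose 𝒜 a i : A) ^ d ∈ 𝒜 (i • d) := by
      have h := SetLike.pow_mem_graded d (show (decompose 𝒜 a i : A) ∈ 𝒜 i from SetLike.coe_mem _)
      rwa [smul_eq_mul, mul_comm] at h
    rw [← map_pow, ← hψ _ _ hmem]
    exact isIntegral_algebraMap
  refine isCohenMacaulayRing_of_retract φ hφ1 fun P hP u hu => ?_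
  obtain ⟨a, rfl⟩ := Ideal.Quotient.mk_surjective u
  -- classes modulo `d`
  let S := (decompose 𝒜 a).support
  let b : ℕ → A := fun c => ∑ j ∈ S.filter (fun j => j % d = c), (decompose 𝒜 a j : A)
  have hb : a = ∑ c ∈ Finset.range d, b c := by
    rw [Finset.sum_fiberwise_of_maps_to (fun j _ => Finset.mem_range.2 (Nat.mod_lt j hd))]
    exact (DirectSum.sum_support_decompose 𝒜 a).symm
  rw [hb, map_sum]
  refine P.sum_mem fun c _ => ?_
  have key : ∀ i, i % d = c → ∀ x ∈ 𝒜 i, q (b c) * q x ^ (d - 1) ∈ P := fun i hic x hx => by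
    have h1 : algebraMap R0 (A ⧸ I) (φ (q a * q (x ^ (d - 1)))) ∈ P := hu (q (x ^ (d - 1)))
    suffices h2 : algebraMap R0 (A ⧸ I) (φ (q a * q (x ^ (d - 1)))) = q (b c) * q x ^ (d - 1) by rwa [h2] at h1
    rw [← map_mul, show φ (q (a * x ^ (d - 1))) = φA (a * x ^ (d - 1)) from rfl,
      ← map_pow, ← map_mul, Finset.sum_mul, map_sum]
    conv_lhs => rw [← DirectSum.sum_support_decompose 𝒜 a, Finset.sum_mul, map_sum, map_sum]
    rw [Finset.sum_filter]
    refine Finset.sum_congr rfl fun j _ => ?_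
    have hdeg : (decompose 𝒜 a j : A) * x ^ (d - 1) ∈ 𝒜 (j + (d - 1) • i) :=
      SetLike.mul_mem_graded (SetLike.coe_mem _) (SetLike.pow_mem_graded _ hx)
    rw [hφhom _ _ hdeg]
    have hiff : d ∣ j + (d - 1) • i ↔ j % d = c := by
      obtain ⟨e, rfl⟩ : ∃ e, d = e + 1 := ⟨d - 1, by omega⟩
      rw [← hic, smul_eq_mul, Nat.add_sub_cancel]
      refine Iff.trans ?_ (Iff.symm (Nat.ModEq.comm (n := e + 1) (a := j) (b := i)))
      rw [← Nat.modEq_zero_iff_dvd]
      constructor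
      · intro h
        have h2 := (h.add_right i)
        rw [zero_add, show j + e * i + i = j + (e + 1) * i by ring] at h2
        have h3 : (j + (e + 1) * i) % (e + 1) = j % (e + 1) := by rw [Nat.add_mul_mod_self_left]
        exact (Nat.ModEq.symm h2).trans h3
      · intro h
        have h2 : j + e * i ≡ i + e * i [MOD (e + 1)] := Nat.ModEq.add_right _ (Nat.ModEq.symm h)
        refine h2.trans (Nat.modEq_zero_iff_dvd.2 ⟨i, by ring⟩)
    split_ifs with hjc
    · rw [hcomp _ _ ⟨hdeg, hiff.2 hjc⟩, hψ]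
    · rw [hcomp0 _ _ fun h => hjc (hiff.1 h), map_zero]
  by_cases hall : ∀ j ∈ S.filter (fun j => j % d = c), q (decompose 𝒜 a j : A) ∈ P
  · rw [map_sum]
    exact P.sum_mem hall
  · push Not at hall
    obtain ⟨j, hj, hjP⟩ := hall
    exact (hP.mem_or_mem (key j (Finset.mem_filter.1 hj).2 _ (SetLike.coe_mem _))).resolve_right
      fun h => hjP (hP.mem_of_pow_mem _ h)

end Groth.Agent.ProjCM
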